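import Cfsg.Agent.Lib.Small.SylowToolkit

/-!
Groups of order `7920` with a nontrivial normal `p`-subgroup have a connected prime graph.
-/

set_option autoImplicit false
set_option linter.style.haveILetI false

namespace Cfsg.Agent.PG7920

variable {G : Type*} [Group G] [Finite G]

/-- An element of order `p * q`. -/
def Adj (G : Type*) [Group G] (p q : ℕ) : Prop := ∃ g : G, orderOf g = p * q

/-- All four primes lie on the same side of every partition without crossing edges. -/
def Connected (G : Type*) [Group G] : Prop :=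
  ∀ A : ℕ → Prop, (∀ a ∈ [2, 3, 5, 11], ∀ b ∈ [2, 3, 5, 11], Adj G a b → (A a ↔ A b)) →
    ∀ a ∈ [2, 3, 5, 11], ∀ b ∈ [2, 3, 5, 11], (A a ↔ A b)

theorem Adj.symm {p q : ℕ} (h : Adj G p q) : Adj G q p := by
  obtain ⟨g, hg⟩ := h
  exact ⟨g, hg.trans (mul_comm p q)⟩

theorem adj_of_commute {p q : ℕ} (hp : p.Prime) (hq : q.Prime) (hpq : p ≠ q) {a b : G}
    (ha : orderOf a = p) (hb : orderOf b = q) (h : Commute a b) : Adj G p q := by
  refine ⟨a * b, ?_⟩
  rw [h.orderOf_mul_eq_mul_orderOf_of_coprime, ha, hb]
  rw [ha, hb]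
  exact (Nat.coprime_primes hp hq).2 hpq

theorem adj_of_orderOf_dvd {p q : ℕ} {g : G} (h : p * q ∣ orderOf g) : Adj G p q :=
  ⟨g ^ (orderOf g / (p * q)), by
    rw [orderOf_pow_of_dvd]
    · exact Nat.div_div_self h (orderOf_pos g).ne'
    · exact Nat.ne_of_gt (Nat.div_pos (Nat.le_of_dvd (orderOf_pos g) h)
        (Nat.pos_of_ne_zero fun e => by rw [e, zero_dvd_iff] at h; exact (orderOf_pos g).ne' h))
    · exact Nat.div_dvd_of_dvd h⟩

theorem adj_of_quotient {p q : ℕ} (N : Subgroup G) [N.Normal] (h : Adj (G ⧸ N) p q) : Adj G p q := by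
  obtain ⟨x, hx⟩ := h
  obtain ⟨g, rfl⟩ := QuotientGroup.mk_surjective x
  exact adj_of_orderOf_dvd (g := g) (hx ▸ orderOf_map_dvd (QuotientGroup.mk' N) g)

/-- An `r`-group normalising a `p`-group without acting freely gives an edge. -/
theorem adj_of_action {r p a k : ℕ} (hr : r.Prime) (hp : p.Prime) (hrp : r ≠ p) (S H : Subgroup G)
    (hS : Nat.card S = r ^ a) (hH : Nat.card H = p ^ k)
    (hnorm : ∀ s ∈ S, ∀ h ∈ H, s * h * s⁻¹ ∈ H) (hnd : ¬ r ^ a ∣ p ^ k - 1) : Adj G r p := by
  classical
  letI act : MulAction S {h : H // h ≠ 1} :=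
    { smul := fun s h => ⟨⟨(s : G) * (h.1 : G) * (s : G)⁻¹, hnorm s s.2 _ h.1.2⟩, fun e => h.2 (Subtype.ext (by
        have e' : (s : G) * (h.1 : G) * (s : G)⁻¹ = 1 := congrArg Subtype.val e
        simpa using e'))⟩
      one_smul := fun h => Subtype.ext (Subtype.ext (by
        show ((1 : S) : G) * (h.1 : G) * ((1 : S) : G)⁻¹ = (h.1 : G)
        simp))
      mul_smul := fun x y h => Subtype.ext (Subtype.ext (by
        show ((x * y : S) : G) * (h.1 : G) * ((x * y : S) : G)⁻¹ =
          (x : G) * ((y : G) * (h.1 : G) * (y : G)⁻¹) * (x : G)⁻¹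
        simp [mul_assoc])) }
  by_contra hno
  have hfree : ∀ h : {h : H // h ≠ 1}, MulAction.stabilizer S h = ⊥ := by
    intro h
    rw [Subgroup.eq_bot_iff_forall]
    intro s hs
    by_contra hs1
    have hcomm : Commute (s : G) (h.1 : G) := by
      have e : (s : G) * (h.1 : G) * (s : G)⁻¹ = (h.1 : G) :=
        congrArg (fun t : {h : H // h ≠ 1} => ((t.1 : H) : G)) (MulAction.mem_stabilizer_iff.1 hs)
      exact mul_inv_eq_iff_eq_mul.1 e
    obtain ⟨i, -, hi⟩ := (Nat.dvd_prime_pow hr).1 (hS ▸ orderOf_dvd_natCard s)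
    obtain ⟨j, -, hj⟩ := (Nat.dvd_prime_pow hp).1 (hH ▸ orderOf_dvd_natCard h.1)
    obtain ⟨i, rfl⟩ : ∃ i', i = i' + 1 := ⟨i - 1, by
      rcases Nat.eq_zero_or_pos i with e | e
      · rw [e, pow_zero, orderOf_eq_one_iff] at hi; exact absurd hi hs1
      · omega⟩
    obtain ⟨j, rfl⟩ : ∃ j', j = j' + 1 := ⟨j - 1, by
      rcases Nat.eq_zero_or_pos j with e | e
      · rw [e, pow_zero, orderOf_eq_one_iff] at hj; exact absurd hj h.2
      · omega⟩
    rw [← Subgroup.orderOf_coe] at hi hj
    refine hno (adj_of_orderOf_dvd (g := (s : G) * (h.1 : G)) ?_)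
    rw [hcomm.orderOf_mul_eq_mul_orderOf_of_coprime (by
      rw [hi, hj]; exact Nat.Coprime.pow _ _ ((Nat.coprime_primes hr hp).2 hrp)), hi, hj]
    exact Nat.mul_dvd_mul (dvd_pow_self r (Nat.succ_ne_zero i)) (dvd_pow_self p (Nat.succ_ne_zero j))
  refine hnd ⟨Nat.card (Quotient (MulAction.orbitRel S {h : H // h ≠ 1})), ?_⟩
  have h1 := Nat.card_congr (MulAction.selfEquivOrbitsQuotientProd hfree)
  rw [Nat.card_prod, hS] at h1
  have h2 : Nat.card {h : H // h ≠ 1} = p ^ k - 1 := by
    letI := Fintype.ofFinite H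
    rw [Nat.card_eq_fintype_card, Fintype.card_subtype_compl, Fintype.card_subtype_eq,
      ← Nat.card_eq_fintype_card, hH]
  rw [h2] at h1
  rw [h1, mul_comm]

/-- A version for a normal `p`-subgroup and a Sylow subgroup. -/
theorem adj_of_normal {r p a k m : ℕ} (hr : r.Prime) (hp : p.Prime) (hrp : r ≠ p) (N : Subgroup G)
    [hN : N.Normal] (hNc : Nat.card N = p ^ k) (hG : Nat.card G = r ^ a * m) (hm : ¬ r ∣ m)
    (hnd : ¬ r ^ a ∣ p ^ k - 1) : Adj G r p := by
  haveI := Fact.mk hr
  obtain ⟨S⟩ : Nonempty (Sylow r G) := inferInstance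
  exact adj_of_action hr hp hrp S N (Small.sylow_card hG hm S) hNc
    (fun s _ h hh => hN.conj_mem h hh s) hnd

/-- The quotient of order `495` joins three and five. -/
theorem adj_three_five {Q : Type*} [Group Q] [Finite Q] (hQ : Nat.card Q = 495) : Adj Q 3 5 := by
  haveI : Fact (Nat.Prime 5) := ⟨by norm_num⟩
  obtain ⟨P⟩ : Nonempty (Sylow 5 Q) := inferInstance
  have hP : Nat.card (P : Subgroup Q) = 5 := by
    rw [Small.sylow_card (k := 1) (m := 99) (by rw [hQ]; norm_num) (by norm_num) P, pow_one]
  have hmem := Small.sylow_number_mem (G := Q) (p := 5) (k := 1) (m := 99) (by rw [hQ]; norm_num) (by norm_num)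
  rw [show (99 : ℕ).divisors.filter (fun d => d % 5 = 1) = {1, 11} by decide +kernel, Finset.mem_insert,
    Finset.mem_singleton] at hmem
  have hN := Small.card_normalizer_mul P
  haveI : Fact (Nat.Prime 3) := ⟨Nat.prime_three⟩
  obtain ⟨y, hy⟩ := exists_prime_orderOf_dvd_card' 3
    (G := Subgroup.normalizer ((P : Subgroup Q) : Set Q)) (by
      rcases hmem with e | e <;> rw [e, hQ] at hN <;> omega)
  refine adj_of_action (a := 1) (k := 1) Nat.prime_three (by norm_num) (by norm_num)
    (Subgroup.zpowers (y : Q)) P (by rw [Nat.card_zpowers, Subgroup.orderOf_coe, hy, pow_one])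
    (by rw [hP, pow_one]) (fun s hs h hh => ?_) (by norm_num)
  exact (Subgroup.mem_normalizer_iff.1 ((Subgroup.zpowers_le (g := (y : Q))).2 y.2 hs) h).1 hh

theorem connected_of_star {c : ℕ} (hc : c ∈ [2, 3, 5, 11])
    (h : ∀ a ∈ [2, 3, 5, 11], a ≠ c → Adj G a c) : Connected G := by
  intro A hA a ha b hb
  have key : ∀ a ∈ [2, 3, 5, 11], (A a ↔ A c) := fun a ha => by
    by_cases e : a = c
    · rw [e]
    · exact hA a ha c hc (h a ha e)
  exact (key a ha).trans (key b hb).symm

theorem adj_of_dvd_centralizer {r p : ℕ} (hr : r.Prime) (hp : p.Prime) (hrp : r ≠ p) (N : Subgroup G)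
    (hN : Nat.card N = p) (hd : r ∣ Nat.card (Subgroup.centralizer (N : Set G))) : Adj G r p := by
  haveI := Fact.mk hr
  haveI := Fact.mk hp
  obtain ⟨x, hx⟩ := exists_prime_orderOf_dvd_card' r (G := Subgroup.centralizer (N : Set G)) hd
  obtain ⟨w, hw⟩ := exists_prime_orderOf_dvd_card' p (G := N) (by rw [hN])
  exact adj_of_commute hr hp hrp (by rw [Subgroup.orderOf_coe, hx]) (by rw [Subgroup.orderOf_coe, hw])
    (Subgroup.mem_centralizer_iff.1 x.2 _ w.2).symm

variable (hcard : Nat.card G = 7920)
include hcard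

/-- No disconnected prime graph with a nontrivial normal `p`-subgroup. -/
theorem connected_of_normal_pgroup {p : ℕ} (hp : p.Prime) (N : Subgroup G) [N.Normal]
    (hpN : IsPGroup p N) (hne : N ≠ ⊥) : Connected G := by
  haveI := Fact.mk hp
  obtain ⟨k, hk⟩ := IsPGroup.iff_card.1 hpN
  have hk0 : k ≠ 0 := fun e => hne ((Subgroup.eq_bot_iff_card N).2 (by rw [hk, e, pow_zero]))
  have hdvd : p ^ k ∣ 7920 := hcard ▸ hk ▸ N.card_subgroup_dvd_card
  have hp' : p = 2 ∨ p = 3 ∨ p = 5 ∨ p = 11 := by
    have h1 : p ∈ Nat.primeFactors 7920 :=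
      Nat.mem_primeFactors.2 ⟨hp, (dvd_pow_self p hk0).trans hdvd, by norm_num⟩
    have h2 : Nat.primeFactors 7920 ⊆ {2, 3, 5, 11} := by
      intro q hq
      obtain ⟨hq1, hq2, -⟩ := Nat.mem_primeFactors.1 hq
      rw [show (7920 : ℕ) = 2 ^ 4 * 3 ^ 2 * 5 * 11 by norm_num] at hq2
      simp only [Finset.mem_insert, Finset.mem_singleton]
      rcases hq1.dvd_mul.1 hq2 with h | h
      · rcases hq1.dvd_mul.1 h with h | h
        · rcases hq1.dvd_mul.1 h with h | h
          · exact Or.inl ((Nat.prime_dvd_prime_iff_eq hq1 Nat.prime_two).1 (hq1.dvd_of_dvd_pow h))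
          · exact Or.inr (Or.inl ((Nat.prime_dvd_prime_iff_eq hq1 Nat.prime_three).1 (hq1.dvd_of_dvd_pow h)))
        · exact Or.inr (Or.inr (Or.inl ((Nat.prime_dvd_prime_iff_eq hq1 (by norm_num)).1 h)))
      · exact Or.inr (Or.inr (Or.inr ((Nat.prime_dvd_prime_iff_eq hq1 (by norm_num)).1 h)))
    simpa using h2 h1
  rcases hp' with rfl | rfl | rfl | rfl
  · -- even normal subgroup
    have hk4 : k ≤ 4 := by
      by_contra hk'
      have := (pow_dvd_pow 2 (show 5 ≤ k by omega)).trans hdvd
      norm_num at this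
    have h3 : Adj G 3 2 := adj_of_normal (a := 2) (m := 880) Nat.prime_three Nat.prime_two (by norm_num)
      N hk (by rw [hcard]; norm_num) (by norm_num) (by interval_cases k <;> norm_num at *)
    have h11 : Adj G 11 2 := adj_of_normal (a := 1) (m := 720) (by norm_num) Nat.prime_two (by norm_num)
      N hk (by rw [hcard]; norm_num) (by norm_num) (by interval_cases k <;> norm_num at *)
    by_cases hk' : k = 4
    · subst hk'
      have hq : Nat.card (G ⧸ N) = 495 := by
        have := N.card_eq_card_quotient_mul_card_subgroup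
        rw [hcard, hk] at this
        omega
      have h53 : Adj G 3 5 := adj_of_quotient N (adj_three_five hq)
      intro A hA a ha b hb
      have e1 := hA 3 (by simp) 2 (by simp) h3
      have e2 := hA 11 (by simp) 2 (by simp) h11
      have e3 := hA 3 (by simp) 5 (by simp) h53
      have key : ∀ a ∈ [2, 3, 5, 11], (A a ↔ A 2) := by
        intro a ha
        simp only [List.mem_cons, List.not_mem_nil, or_false] at ha
        rcases ha with rfl | rfl | rfl | rfl
        · exact Iff.rfl
        · exact e1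
        · exact e3.symm.trans e1
        · exact e2
      exact (key a ha).trans (key b hb).symm
    · have h5 : Adj G 5 2 := adj_of_normal (a := 1) (m := 1584) (by norm_num) Nat.prime_two (by norm_num)
        N hk (by rw [hcard]; norm_num) (by norm_num) (by interval_cases k <;> norm_num at *)
      refine connected_of_star (c := 2) (by simp) fun a ha hac => ?_
      simp only [List.mem_cons, List.not_mem_nil, or_false] at ha
      rcases ha with rfl | rfl | rfl | rfl
      exacts [absurd rfl hac, h3, h5, h11]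
  · have hk2 : k ≤ 2 := by
      by_contra hk'
      have := (pow_dvd_pow 3 (show 3 ≤ k by omega)).trans hdvd
      norm_num at this
    refine connected_of_star (c := 3) (by simp) fun a ha hac => ?_
    simp only [List.mem_cons, List.not_mem_nil, or_false] at ha
    rcases ha with rfl | rfl | rfl | rfl
    · exact adj_of_normal (a := 4) (m := 495) Nat.prime_two Nat.prime_three (by norm_num)
        N hk (by rw [hcard]; norm_num) (by norm_num) (by interval_cases k <;> norm_num at *)
    · exact absurd rfl hac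
    · exact adj_of_normal (a := 1) (m := 1584) (by norm_num) Nat.prime_three (by norm_num)
        N hk (by rw [hcard]; norm_num) (by norm_num) (by interval_cases k <;> norm_num at *)
    · exact adj_of_normal (a := 1) (m := 720) (by norm_num) Nat.prime_three (by norm_num)
        N hk (by rw [hcard]; norm_num) (by norm_num) (by interval_cases k <;> norm_num at *)
  · obtain rfl : k = 1 := by
      by_contra hk'
      have := (pow_dvd_pow 5 (show 2 ≤ k by omega)).trans hdvd
      norm_num at this
    rw [pow_one] at hk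
    have h := Small.card_normalizer_dvd N hk
    rw [Subgroup.normalizer_eq_top_iff.2 inferInstance, Subgroup.card_top, hcard] at h
    refine connected_of_star (c := 5) (by simp) fun a ha hac => ?_
    have h1980 : 1980 ∣ Nat.card (Subgroup.centralizer (N : Set G)) :=
      Nat.dvd_of_mul_dvd_mul_right (k := 4) (by norm_num) h
    simp only [List.mem_cons, List.not_mem_nil, or_false] at ha
    rcases ha with rfl | rfl | rfl | rfl
    · exact adj_of_dvd_centralizer Nat.prime_two (by norm_num) hac N hk ((by norm_num : 2 ∣ 1980).trans h1980)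
    · exact adj_of_dvd_centralizer Nat.prime_three (by norm_num) hac N hk ((by norm_num : 3 ∣ 1980).trans h1980)
    · exact absurd rfl hac
    · exact adj_of_dvd_centralizer (by norm_num) (by norm_num) hac N hk ((by norm_num : 11 ∣ 1980).trans h1980)
  · obtain rfl : k = 1 := by
      by_contra hk'
      have := (pow_dvd_pow 11 (show 2 ≤ k by omega)).trans hdvd
      norm_num at this
    rw [pow_one] at hk
    have h := Small.card_normalizer_dvd N hk
    rw [Subgroup.normalizer_eq_top_iff.2 inferInstance, Subgroup.card_top, hcard] at h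
    set C := Subgroup.centralizer (N : Set G) with hC
    have h792 : 792 ∣ Nat.card C := Nat.dvd_of_mul_dvd_mul_right (k := 10) (by norm_num) h
    have h2 : Adj G 2 11 := adj_of_dvd_centralizer Nat.prime_two (by norm_num) (by norm_num) N hk
      ((by norm_num : 2 ∣ 792).trans h792)
    have h3 : Adj G 3 11 := adj_of_dvd_centralizer Nat.prime_three (by norm_num) (by norm_num) N hk
      ((by norm_num : 3 ∣ 792).trans h792)
    by_cases h5 : 5 ∣ Nat.card C
    · refine connected_of_star (c := 11) (by simp) fun a ha hac => ?_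
      simp only [List.mem_cons, List.not_mem_nil, or_false] at ha
      rcases ha with rfl | rfl | rfl | rfl
      exacts [h2, h3, adj_of_dvd_centralizer (by norm_num) (by norm_num) hac N hk h5, absurd rfl hac]
    · haveI : Fact (Nat.Prime 3) := ⟨Nat.prime_three⟩
      haveI : Fact (Nat.Prime 5) := ⟨by norm_num⟩
      have h9 : (9 : ℕ) ∣ Nat.card C := (by norm_num : 9 ∣ 792).trans h792
      obtain ⟨S⟩ : Nonempty (Sylow 3 C) := inferInstance
      set Q : Subgroup G := (S : Subgroup C).map C.subtype with hQ
      have hQc : Nat.card Q = 9 := by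
        rw [hQ, Subgroup.card_map_of_injective C.subtype_injective]
        obtain ⟨c, hc⟩ := h9
        have hc3 : ¬ 3 ∣ c := fun ⟨d, hd⟩ => by
          have := Dvd.dvd.trans (⟨d, by rw [hc, hd]; ring⟩ : 27 ∣ Nat.card C) C.card_subgroup_dvd_card
          rw [hcard] at this
          norm_num at this
        rw [Small.sylow_card (k := 2) (m := c) (by rw [hc]; norm_num) hc3 S]
        norm_num
      set M := Subgroup.normalizer (Q : Set G) with hM
      have htop : M ⊔ C = ⊤ := Sylow.normalizer_sup_eq_top S
      have hidx : C.index = C.relIndex M := by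
        rw [← Subgroup.relIndex_top_right, ← htop, Subgroup.relIndex_sup_right]
      have h5i : 5 ∣ C.index := by
        have hmul := C.card_mul_index
        rw [hcard] at hmul
        rcases (Nat.Prime.dvd_mul (by norm_num : Nat.Prime 5)).1 (hmul.symm ▸ (by norm_num : 5 ∣ 7920)) with e | e
        · exact absurd e h5
        · exact e
      have h5M : 5 ∣ Nat.card M := h5i.trans (hidx ▸ Subgroup.relIndex_dvd_card (H := C) (K := M))
      obtain ⟨x, hx⟩ := exists_prime_orderOf_dvd_card' 5 (G := M) h5M
      have h53 : Adj G 5 3 := adj_of_action (a := 1) (k := 2) (by norm_num) Nat.prime_three (by norm_num)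
        (Subgroup.zpowers (x : G)) Q (by rw [Nat.card_zpowers, Subgroup.orderOf_coe, hx, pow_one])
        (by rw [hQc]; norm_num)
        (fun s hs w hw => (Subgroup.mem_normalizer_iff.1 ((Subgroup.zpowers_le (g := (x : G))).2 x.2 hs) w).1 hw)
        (by norm_num)
      intro A hA a ha b hb
      have e1 := hA 2 (by simp) 11 (by simp) h2
      have e2 := hA 3 (by simp) 11 (by simp) h3
      have e3 := hA 5 (by simp) 3 (by simp) h53
      have key : ∀ a ∈ [2, 3, 5, 11], (A a ↔ A 11) := by
        intro a ha
        simp only [List.mem_cons, List.not_mem_nil, or_false] at ha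
        rcases ha with rfl | rfl | rfl | rfl
        · exact e1
        · exact e2
        · exact e3.trans e2
        · exact Iff.rfl
      exact (key a ha).trans (key b hb).symm

end Cfsg.Agent.PG7920
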