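import Cfsg.Agent.S0496
import Cfsg.Agent.Lib.Small.OrderTools
import Cfsg.Agent.Lib.Small.CommFixed
import Cfsg.Agent.Lib.Small.SelfCentral

/-!
The nonabelian simple groups of order properly dividing `7920` have order `60`, `360` or `660`.
-/

set_option autoImplicit false
set_option linter.style.haveILetI false

namespace Cfsg.Agent.PG7920

variable {G : Type*} [Group G] [Finite G]

theorem ne_of_twelve [IsSimpleGroup G] (hG : ¬ IsMulCommutative G) (m : ℕ)
    (hn : Nat.card G = 11 * m) (hm : ¬ 11 ∣ m) [Fact (Nat.Prime 11)]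
    (h12 : Nat.card (Sylow 11 G) = 12) : 2 * (11 * m) ∣ 110 * 12 := by
  obtain ⟨P, hP⟩ : ∃ P : Sylow 11 G, Nat.card (P : Subgroup G) = 11 := by
    obtain ⟨P⟩ : Nonempty (Sylow 11 G) := inferInstance
    exact ⟨P, by rw [Small.sylow_card (k := 1) (by rw [hn, pow_one]) hm P, pow_one]⟩
  have h := Nat.mul_dvd_mul_right
    (OrderTools.two_mul_card_normalizer_dvd hG (by norm_num) P hP h12) 12
  have hmul := Small.card_normalizer_mul P
  rw [h12, hn] at hmul
  rwa [mul_assoc, hmul] at h

theorem sylow_eleven_cases [IsSimpleGroup G] (hG : ¬ IsMulCommutative G) (m : ℕ)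
    (hn : Nat.card G = 11 * m) (hm : ¬ 11 ∣ m) [Fact (Nat.Prime 11)] :
    Nat.card (Sylow 11 G) ∈ (m.divisors.filter (fun d => d % 11 = 1)).erase 1 :=
  Finset.mem_erase.2 ⟨Small.sylow_number_ne_one hG (hn ▸ dvd_mul_right 11 m),
    Small.sylow_number_mem (k := 1) (by rw [hn, pow_one]) hm⟩

theorem card_ne_1320 [IsSimpleGroup G] : Nat.card G ≠ 1320 := by
  intro hn
  haveI : Fact (Nat.Prime 11) := ⟨by norm_num⟩
  have hG := Small.not_comm_of_card (G := G) (by rw [hn]; norm_num)
  have h := sylow_eleven_cases hG 120 (by rw [hn]) (by norm_num)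
  rw [show (((120 : ℕ).divisors.filter (fun d => d % 11 = 1)).erase 1) = {12} by decide +kernel,
    Finset.mem_singleton] at h
  have := ne_of_twelve hG 120 (by rw [hn]) (by norm_num) h
  norm_num at this

theorem card_ne_2640 [IsSimpleGroup G] : Nat.card G ≠ 2640 := by
  intro hn
  haveI : Fact (Nat.Prime 11) := ⟨by norm_num⟩
  have hG := Small.not_comm_of_card (G := G) (by rw [hn]; norm_num)
  have h := sylow_eleven_cases hG 240 (by rw [hn]) (by norm_num)
  rw [show (((240 : ℕ).divisors.filter (fun d => d % 11 = 1)).erase 1) = {12} by decide +kernel,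
    Finset.mem_singleton] at h
  have := ne_of_twelve hG 240 (by rw [hn]) (by norm_num) h
  norm_num at this

theorem card_ne_1584 [IsSimpleGroup G] : Nat.card G ≠ 1584 := by
  intro hn
  haveI : Fact (Nat.Prime 11) := ⟨by norm_num⟩
  have hG := Small.not_comm_of_card (G := G) (by rw [hn]; norm_num)
  have hnp : ¬ (Nat.card G).Prime := by rw [hn]; norm_num
  have h := sylow_eleven_cases hG 144 (by rw [hn]) (by norm_num)
  rw [show (((144 : ℕ).divisors.filter (fun d => d % 11 = 1)).erase 1) = {12, 144} by decide +kernel,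
    Finset.mem_insert, Finset.mem_singleton] at h
  rcases h with h | h
  · have := ne_of_twelve hG 144 (by rw [hn]) (by norm_num) h
    norm_num at this
  · obtain ⟨P⟩ : Nonempty (Sylow 11 G) := inferInstance
    have hP : Nat.card (P : Subgroup G) = 11 := by
      rw [Small.sylow_card (k := 1) (m := 144) (by rw [hn]; norm_num) (by norm_num) P, pow_one]
    have hN := Small.card_normalizer_mul P
    rw [h, hn] at hN
    have hC := CommFix.card_centralizer_cases hnp P hP (n := 11) (by norm_num) (by omega)
    rw [show (Nat.divisors 11).filter (fun c => 11 ∣ c ∧ c ≠ 11 ∧ 11 ∣ c * (11 - 1)) = ∅ by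
      decide +kernel] at hC
    simp at hC

/-- An involution centralising an element of order eleven excludes subgroups of index eleven. -/
theorem no_index_eleven [IsSimpleGroup G] {H : Subgroup G} (hi : H.index = 11)
    (h11 : ¬ 11 ∣ Nat.card H) {z v : G} (hz : orderOf z = 2) (hv : orderOf v = 11)
    (hc : Commute z v) : False := by
  have hH : H ≠ ⊤ := fun h => by rw [h, Subgroup.index_top] at hi; omega
  haveI : IsEmpty {q : G ⧸ H // z • q = q ∧ v • q = q} := by
    refine ⟨fun q => h11 ?_⟩
    obtain ⟨g, hg⟩ := QuotientGroup.mk_surjective q.1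
    have h := q.2.2
    rw [← hg, MulAction.Quotient.smul_mk, eq_comm, QuotientGroup.eq, smul_eq_mul] at h
    have ho : orderOf (g⁻¹ * (v * g)) = 11 := by
      rw [← hv, ← (MulAut.conj g⁻¹).orderOf_eq v, MulAut.conj_apply, inv_inv, mul_assoc]
    exact ho ▸ Subgroup.orderOf_dvd_natCard H h
  have h1 := CommFix.fix_common (by norm_num : Nat.Prime 11) H hv hc
  rw [Nat.card_of_isEmpty] at h1
  have h2 := CommFix.modEq_prime Nat.prime_two H hz
  have hlt := CommFix.fix_lt hH (x := z) fun e => by rw [e, orderOf_one] at hz; omega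
  rw [hi] at h2 hlt
  omega

variable [IsSimpleGroup G]

/-- An involution commuting with an element of order eleven, from forty-five Sylow subgroups. -/
theorem exists_invol_eleven {k : ℕ} (hk : k = 4 ∨ k = 8) (hn : Nat.card G = 495 * k) :
    ∃ z v : G, orderOf z = 2 ∧ orderOf v = 11 ∧ Commute z v := by
  haveI : Fact (Nat.Prime 11) := ⟨by norm_num⟩
  haveI : Fact (Nat.Prime 2) := ⟨Nat.prime_two⟩
  have hnp : ¬ (Nat.card G).Prime := by rcases hk with rfl | rfl <;> (rw [hn]; norm_num)
  have hG := Small.not_comm_of_card hnp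
  have hm : ¬ 11 ∣ 45 * k := by rcases hk with rfl | rfl <;> norm_num
  have hn' : Nat.card G = 11 * (45 * k) := by omega
  have h := sylow_eleven_cases hG (45 * k) hn' hm
  have key : ((45 * k).divisors.filter (fun d => d % 11 = 1)).erase 1 ⊆ {12, 45} := by
    rcases hk with rfl | rfl <;> decide +kernel
  have h' := key h
  rw [Finset.mem_insert, Finset.mem_singleton] at h'
  rcases h' with h' | h'
  · have := ne_of_twelve hG (45 * k) hn' hm h'
    rcases hk with rfl | rfl <;> norm_num at this
  obtain ⟨P⟩ : Nonempty (Sylow 11 G) := inferInstance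
  have hP : Nat.card (P : Subgroup G) = 11 := by
    rw [Small.sylow_card (k := 1) (m := 45 * k) (by rw [hn']; norm_num) hm P, pow_one]
  have hN := Small.card_normalizer_mul P
  rw [h', hn] at hN
  have hC := CommFix.card_centralizer_cases hnp P hP (n := 11 * k) (by omega) (by omega)
  have h2 : 2 ∣ Nat.card (Subgroup.centralizer ((P : Subgroup G) : Set G)) := by
    have key2 : ∀ c ∈ (11 * k).divisors.filter
        (fun c => 11 ∣ c ∧ c ≠ 11 * k ∧ 11 * k ∣ c * (11 - 1)), 2 ∣ c := by
      rcases hk with rfl | rfl <;> decide +kernel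
    exact key2 _ hC
  obtain ⟨z, hz⟩ := exists_prime_orderOf_dvd_card' 2
    (G := Subgroup.centralizer ((P : Subgroup G) : Set G)) h2
  obtain ⟨v, hv⟩ := exists_prime_orderOf_dvd_card' 11 (G := (P : Subgroup G)) (by rw [hP])
  exact ⟨z, v, by rw [Subgroup.orderOf_coe, hz], by rw [Subgroup.orderOf_coe, hv],
    (Subgroup.mem_centralizer_iff.1 z.2 _ v.2).symm⟩

/-- In the two large orders a Sylow five-normaliser has order `k / 4 * 5`. -/
theorem card_sylow_five {k : ℕ} (hk : k = 4 ∨ k = 8) (hn : Nat.card G = 495 * k) :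
    Nat.card (Sylow 5 G) = 396 := by
  haveI : Fact (Nat.Prime 5) := ⟨by norm_num⟩
  haveI : Fact (Nat.Prime 3) := ⟨Nat.prime_three⟩
  haveI : Fact (Nat.Prime 11) := ⟨by norm_num⟩
  obtain ⟨z, v, hz, hv, hzv⟩ := exists_invol_eleven hk hn
  have hnp : ¬ (Nat.card G).Prime := by rcases hk with rfl | rfl <;> (rw [hn]; norm_num)
  have hG := Small.not_comm_of_card hnp
  have hd : 5 ∣ Nat.card G := ⟨99 * k, by omega⟩
  have hm : ¬ 5 ∣ 99 * k := by rcases hk with rfl | rfl <;> norm_num
  have h := Small.sylow_number_mem (G := G) (p := 5) (k := 1) (m := 99 * k) (by omega) hm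
  have hne := Small.sylow_number_ne_one (p := 5) hG hd
  have key : (99 * k).divisors.filter (fun d => d % 5 = 1) ⊆ {1, 6, 11, 36, 66, 396} := by
    rcases hk with rfl | rfl <;> decide +kernel
  have h' := key h
  simp only [Finset.mem_insert, Finset.mem_singleton] at h'
  obtain ⟨P⟩ : Nonempty (Sylow 5 G) := inferInstance
  have hP : Nat.card (P : Subgroup G) = 5 := by
    rw [Small.sylow_card (k := 1) (m := 99 * k) (by omega) hm P, pow_one]
  have hN := Small.card_normalizer_mul P
  set N := Subgroup.normalizer ((P : Subgroup G) : Set G) with hNdef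
  set C := Subgroup.centralizer ((P : Subgroup G) : Set G) with hCdef
  rcases h' with h' | h' | h' | h' | h' | h'
  · exact absurd h' hne
  · have := Small.factorial_bound (p := 5) hG hd
    rw [h', hn] at this
    rcases hk with rfl | rfl <;> norm_num [Nat.factorial] at this
  · rw [h', hn] at hN
    refine absurd (no_index_eleven (H := N) ((Small.card_eq_index P).symm.trans h') ?_ hz hv hzv) id
    rcases hk with rfl | rfl <;> omega
  · exfalso
    rw [h', hn] at hN
    have h11N : 11 ∣ Nat.card N := by rcases hk with rfl | rfl <;> omega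
    have hC5 := CommFix.card_centralizer_cases hnp P hP (n := Nat.card N) Nat.card_pos rfl
    rw [Finset.mem_filter] at hC5
    have h11C : 11 ∣ Nat.card C :=
      (Nat.Coprime.dvd_of_dvd_mul_right (by norm_num) (h11N.trans hC5.2.2.2))
    obtain ⟨w, hw⟩ := exists_prime_orderOf_dvd_card' 11 (G := C) h11C
    obtain ⟨u, hu⟩ := exists_prime_orderOf_dvd_card' 5 (G := (P : Subgroup G)) (by rw [hP])
    have hc : Commute (u : G) (w : G) := Subgroup.mem_centralizer_iff.1 w.2 _ u.2
    obtain ⟨R, hR⟩ := (IsPGroup.of_card (p := 11) (n := 1)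
      (by rw [Nat.card_zpowers, Subgroup.orderOf_coe, hw, pow_one]) :
        IsPGroup 11 (Subgroup.zpowers (w : G))).exists_le_sylow
    have hRc : Nat.card (R : Subgroup G) = 11 := by
      rw [Small.sylow_card (k := 1) (m := 45 * k) (by omega) (by rcases hk with rfl | rfl <;> norm_num) R,
        pow_one]
    have hEq : Subgroup.zpowers (w : G) = (R : Subgroup G) :=
      Subgroup.eq_of_le_of_card_ge hR (by rw [hRc, Nat.card_zpowers, Subgroup.orderOf_coe, hw])
    have huR : (u : G) ∈ Subgroup.centralizer ((R : Subgroup G) : Set G) := by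
      rw [← hEq, Subgroup.mem_centralizer_iff]
      intro x hx
      obtain ⟨i, rfl⟩ := Subgroup.mem_zpowers_iff.1 hx
      exact ((hc.zpow_right i).symm).eq
    have h5 := Subgroup.orderOf_dvd_natCard _
      (Small.centralizer_le_normalizer _ huR)
    rw [Subgroup.orderOf_coe, hu] at h5
    have hmul := Small.card_normalizer_mul R
    have h11 := sylow_eleven_cases hG (45 * k) (by omega) (by rcases hk with rfl | rfl <;> norm_num)
    have key11 : ((45 * k).divisors.filter (fun d => d % 11 = 1)).erase 1 ⊆ {12, 45} := by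
      rcases hk with rfl | rfl <;> decide +kernel
    have h11' := key11 h11
    rw [Finset.mem_insert, Finset.mem_singleton] at h11'
    rcases h11' with e | e
    · have := ne_of_twelve hG (45 * k) (by omega) (by rcases hk with rfl | rfl <;> norm_num) e
      rcases hk with rfl | rfl <;> norm_num at this
    · rw [e, hn] at hmul
      obtain ⟨j, hj⟩ := h5
      rcases hk with rfl | rfl <;> omega
  · exfalso
    rw [h', hn] at hN
    have hC5 := CommFix.card_centralizer_cases hnp P hP (n := Nat.card N) Nat.card_pos rfl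
    rw [Finset.mem_filter] at hC5
    have h3N : 3 ∣ Nat.card N := by rcases hk with rfl | rfl <;> omega
    have h3C : 3 ∣ Nat.card C :=
      (Nat.Coprime.dvd_of_dvd_mul_right (by norm_num) (h3N.trans hC5.2.2.2))
    obtain ⟨y, hy⟩ := exists_prime_orderOf_dvd_card' 3 (G := C) h3C
    -- the centralizer has a unique subgroup of order three
    have hPC : (P : Subgroup G) ≤ C := Small.le_centralizer_self _ hP
    have huniq : Nat.card (Sylow 3 C) = 1 := by
      have h9 : ¬ 9 ∣ Nat.card C := fun h9 => by
        have := h9.trans (Subgroup.card_dvd_of_le (show C ≤ N from Small.centralizer_le_normalizer _))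
        rcases hk with rfl | rfl <;> omega
      obtain ⟨c, hc⟩ := h3C
      have hc3 : ¬ 3 ∣ c := fun ⟨d, hd⟩ => h9 ⟨d, by rw [hc, hd]; ring⟩
      have hmem := Small.sylow_number_mem (G := C) (p := 3) (k := 1) (m := c) (by rw [hc, pow_one]) hc3
      rw [Finset.mem_filter, Nat.mem_divisors] at hmem
      obtain ⟨Y⟩ : Nonempty (Sylow 3 C) := inferInstance
      -- `P` is central in `C`, so five divides every normaliser in `C`
      have hP5 : 5 ∣ Nat.card (Subgroup.normalizer ((Y : Subgroup C) : Set C)) := by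
        have hle : (P : Subgroup G).subgroupOf C ≤ Subgroup.normalizer ((Y : Subgroup C) : Set C) :=
          le_trans (fun x hx => Subgroup.mem_centralizer_iff.2 fun w _ =>
            Subtype.ext (Subgroup.mem_centralizer_iff.1 w.2 _ hx).symm)
            (Small.centralizer_le_normalizer _)
        have := Subgroup.card_dvd_of_le hle
        rwa [Nat.card_congr (Subgroup.subgroupOfEquivOfLe hPC).toEquiv, hP] at this
      have hmul3 := Small.card_normalizer_mul Y
      obtain ⟨j, hj⟩ := hP5
      have hdiv : 5 * Nat.card (Sylow 3 C) ∣ Nat.card N :=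
        Dvd.dvd.trans ⟨j, by rw [← hmul3, hj]; ring⟩
          (Subgroup.card_dvd_of_le (Small.centralizer_le_normalizer _))
      have h6 : Nat.card (Sylow 3 C) ∣ 12 := by
        rcases hk with rfl | rfl
        · have : Nat.card N = 5 * 6 := by omega
          rw [this] at hdiv
          exact (Nat.dvd_of_mul_dvd_mul_left (by norm_num) hdiv).trans (by norm_num)
        · have : Nat.card N = 5 * 12 := by omega
          rw [this] at hdiv
          exact Nat.dvd_of_mul_dvd_mul_left (by norm_num) hdiv
      have hle12 := Nat.le_of_dvd (by norm_num) h6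
      have h3mod := hmem.2
      have hne4 : Nat.card (Sylow 3 C) ≠ 4 := fun e => by
        rw [e] at hdiv hmul3
        have hC4 : 5 * 4 ∣ Nat.card C := ⟨j, by rw [← hmul3, hj]; ring⟩
        have hC60 : 60 ∣ Nat.card C := by
          have := Nat.Coprime.mul_dvd_of_dvd_of_dvd (by norm_num : Nat.Coprime 20 3) hC4 ⟨c, hc⟩
          exact this
        have hCN : Nat.card N ∣ 60 := by
          rcases hk with rfl | rfl
          · rw [show Nat.card N = 30 by omega]; norm_num
          · rw [show Nat.card N = 60 by omega]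
        exact hC5.2.2.1 (Nat.dvd_antisymm (Subgroup.card_dvd_of_le (Small.centralizer_le_normalizer _))
          (hCN.trans hC60))
      have key3 : ∀ d < 13, d ∣ 12 → d % 3 = 1 → d = 1 ∨ d = 4 := by decide +kernel
      exact (key3 _ (by omega) h6 h3mod).resolve_right hne4
    haveI : Subsingleton (Sylow 3 C) := (Nat.card_eq_one_iff_unique.1 huniq).1
    obtain ⟨Y, hyY⟩ := (IsPGroup.of_card (p := 3) (n := 1)
      (by rw [Nat.card_zpowers, hy, pow_one]) : IsPGroup 3 (Subgroup.zpowers y)).exists_le_sylow
    haveI : (Y : Subgroup C).Normal := Y.normal_of_subsingleton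
    set Y' : Subgroup G := (Y : Subgroup C).map C.subtype with hY'
    have hy1 : (y : G) ≠ 1 := fun e => by
      have : orderOf (y : G) = 3 := by rw [Subgroup.orderOf_coe, hy]
      rw [e, orderOf_one] at this; omega
    have hyY' : (y : G) ∈ Y' := ⟨y, hyY (Subgroup.mem_zpowers y), rfl⟩
    have hYC : Y' ≤ C := Subgroup.map_subtype_le _
    set M := Subgroup.normalizer (Y' : Set G) with hMdef
    have hNM : N ≤ M := by
      intro g hg
      have hCg : ∀ {a : G}, a ∈ C → ∀ {b : G}, b ∈ Subgroup.normalizer ((P : Subgroup G) : Set G) →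
          b * a * b⁻¹ ∈ C := by
        intro a ha b hb
        refine Subgroup.mem_centralizer_iff.2 fun w hw => ?_
        have hw' : b⁻¹ * w * b ∈ (P : Subgroup G) := by
          have := (Subgroup.mem_normalizer_iff.1 (inv_mem hb) w).1 hw
          simpa using this
        have := Subgroup.mem_centralizer_iff.1 ha _ hw'
        calc w * (b * a * b⁻¹) = b * ((b⁻¹ * w * b) * a) * b⁻¹ := by group
          _ = b * (a * (b⁻¹ * w * b)) * b⁻¹ := by rw [this]
          _ = b * a * b⁻¹ * w := by group
      have hin : ∀ b ∈ N, ∀ x ∈ Y', b * x * b⁻¹ ∈ Y' := by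
        intro b hb x hx
        obtain ⟨x', hx', rfl⟩ := hx
        set w : C := ⟨b * (x' : G) * b⁻¹, hCg x'.2 hb⟩ with hw
        obtain ⟨i, hi⟩ := Y.isPGroup' ⟨x', hx'⟩
        have hwp : IsPGroup 3 (Subgroup.zpowers w) := by
          obtain ⟨e, -, he⟩ := (Nat.dvd_prime_pow Nat.prime_three).1
            (orderOf_dvd_of_pow_eq_one (x := w) (n := 3 ^ i) (Subtype.ext (by
              show (b * (x' : G) * b⁻¹) ^ 3 ^ i = 1
              rw [conj_pow, show (x' : G) ^ 3 ^ i = 1 from
                congrArg (fun t : (Y : Subgroup C) => ((t : C) : G)) hi, mul_one, mul_inv_cancel])))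
          exact IsPGroup.of_card (n := e) (by rw [Nat.card_zpowers, he])
        obtain ⟨Y2, hY2⟩ := hwp.exists_le_sylow
        rw [Subsingleton.elim Y2 Y] at hY2
        exact ⟨w, hY2 (Subgroup.mem_zpowers w), rfl⟩
      refine Subgroup.mem_normalizer_iff.2 fun x => ⟨hin g hg x, fun hx => ?_⟩
      have := hin g⁻¹ (inv_mem hg) _ hx
      simpa [mul_assoc] using this
    have hMne : M ≠ ⊤ := by
      intro e
      have hn' : Y'.Normal := Subgroup.normalizer_eq_top_iff.1 e
      rcases hn'.eq_bot_or_eq_top with e' | e'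
      · rw [e', Subgroup.mem_bot] at hyY'; exact hy1 hyY'
      · rw [e', top_le_iff] at hYC
        have hcard := Subgroup.card_dvd_of_le (Small.centralizer_le_normalizer (P : Subgroup G))
        rw [← hCdef, ← hNdef, hYC, Subgroup.card_top, hn] at hcard
        have := Nat.le_of_dvd Nat.card_pos hcard
        omega
    -- a Sylow three-subgroup containing `y` normalises `Y'`
    have h3Y : Nat.card (Y : Subgroup C) = 3 := by
      obtain ⟨c, hc⟩ := h3C
      have hc3 : ¬ 3 ∣ c := fun ⟨d, hd⟩ => by
        have := Dvd.dvd.trans (⟨d, by rw [hc, hd]; ring⟩ : 9 ∣ Nat.card C)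
          (Subgroup.card_dvd_of_le (show C ≤ N from Small.centralizer_le_normalizer _))
        rcases hk with rfl | rfl <;> omega
      rw [Small.sylow_card (k := 1) (by rw [hc, pow_one]) hc3 Y, pow_one]
    have hY'3 : Nat.card Y' = 3 := by
      rw [hY', Subgroup.card_map_of_injective C.subtype_injective, h3Y]
    obtain ⟨Q, hQ⟩ := (IsPGroup.of_card (p := 3) (n := 1) (by rw [hY'3, pow_one]) :
      IsPGroup 3 Y').exists_le_sylow
    have hQc : Nat.card (Q : Subgroup G) = 9 := by
      rw [Small.sylow_card (k := 2) (m := 55 * k) (by omega)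
        (by rcases hk with rfl | rfl <;> norm_num) Q]
      norm_num
    have hQM : (Q : Subgroup G) ≤ M := by
      haveI := IsPGroup.isMulCommutative_of_card_eq_prime_sq (p := 3) (G := (Q : Subgroup G))
        (by rw [hQc]; norm_num)
      refine le_trans (fun q hq => Subgroup.mem_centralizer_iff.2 fun x hx => ?_)
        (Small.centralizer_le_normalizer Y')
      exact congrArg Subtype.val (mul_comm' (⟨x, hQ hx⟩ : (Q : Subgroup G)) ⟨q, hq⟩)
    -- Sylow five-subgroups of `M`
    have hPM : (P : Subgroup G) ≤ M := le_trans P.le_normalizer hNM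
    have hNM' : (Subgroup.normalizer (((P.subtype hPM : Sylow 5 M) : Subgroup M) : Set M)) =
        N.subgroupOf M := by
      rw [Sylow.coe_subtype, ← Subgroup.subgroupOf_normalizer_eq hPM]
    have hmM := Small.card_eq_index (P.subtype hPM : Sylow 5 M)
    rw [hNM'] at hmM
    have hrel := Subgroup.relIndex_mul_index hNM
    rw [show N.index = 66 from (Small.card_eq_index P).symm.trans h',
      show N.relIndex M = Nat.card (Sylow 5 M) from hmM.symm] at hrel
    have h9M : 9 ∣ Nat.card M := hQc ▸ Subgroup.card_dvd_of_le hQM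
    have hmulM := Small.card_normalizer_mul (P.subtype hPM : Sylow 5 M)
    rw [hNM', Nat.card_congr (Subgroup.subgroupOfEquivOfLe hNM).toEquiv] at hmulM
    have h5mod := (card_sylow_modEq_one 5 M : Nat.card (Sylow 5 M) % 5 = 1 % 5)
    have h3n : 3 ∣ Nat.card (Sylow 5 M) := by
      rcases hk with rfl | rfl
      · rw [show Nat.card N = 30 by omega] at hmulM; omega
      · rw [show Nat.card N = 60 by omega] at hmulM; omega
    have hd66 : Nat.card (Sylow 5 M) ∣ 66 := ⟨_, hrel.symm⟩
    have key66 : ∀ d < 67, d ∣ 66 → 3 ∣ d → d % 5 = 1 → d = 6 ∨ d = 66 := by decide +kernel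
    rcases key66 _ (by have := Nat.le_of_dvd (by norm_num) hd66; omega) hd66 h3n
      (h5mod : Nat.card (Sylow 5 M) % 5 = 1) with e | e
    · rw [e] at hrel hmulM
      refine no_index_eleven (H := M) (by omega) ?_ hz hv hzv
      rcases hk with rfl | rfl <;> omega
    · rw [e] at hrel
      exact hMne (Subgroup.index_eq_one.1 (by omega))
  · exact h'

theorem card_ne_1980 : Nat.card G ≠ 1980 := by
  intro hn
  haveI : Fact (Nat.Prime 5) := ⟨by norm_num⟩
  have hnp : ¬ (Nat.card G).Prime := by rw [hn]; norm_num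
  have h := card_sylow_five (k := 4) (Or.inl rfl) (by rw [hn])
  obtain ⟨P⟩ : Nonempty (Sylow 5 G) := inferInstance
  have hP : Nat.card (P : Subgroup G) = 5 := by
    rw [Small.sylow_card (k := 1) (m := 396) (by rw [hn]; norm_num) (by norm_num) P, pow_one]
  have hN := Small.card_normalizer_mul P
  rw [h, hn] at hN
  have hC := CommFix.card_centralizer_cases hnp P hP (n := 5) (by norm_num) (by omega)
  rw [show (Nat.divisors 5).filter (fun c => 5 ∣ c ∧ c ≠ 5 ∧ 5 ∣ c * (5 - 1)) = ∅ by decide +kernel] at hC
  simp at hC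

/-- Six times a nonzero square is not a square, and the like. -/
theorem not_isSquare_mul {d : ℕ} (hd : ¬ IsSquare d) {x c : ℤ} (hc : c ≠ 0)
    (h : (d : ℤ) * x ^ 2 = c ^ 2) : False := by
  refine hd ?_
  have hx : x ≠ 0 := fun e => by
    rw [e] at h
    exact hc (pow_eq_zero_iff (two_ne_zero) |>.1 (by simpa using h.symm))
  have hdvd : x ^ 2 ∣ c ^ 2 := ⟨d, by rw [← h]; ring⟩
  obtain ⟨e, rfl⟩ := (Int.pow_dvd_pow_iff two_ne_zero).1 hdvd
  refine ⟨e.natAbs, ?_⟩
  have h2 : (d : ℤ) = e * e := mul_right_cancel₀ (pow_ne_zero 2 hx) (by rw [h]; ring)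
  have h3 := congrArg Int.natAbs h2
  rwa [Int.natAbs_natCast, Int.natAbs_mul] at h3

theorem card_ne_3960 : Nat.card G ≠ 3960 := by
  intro hn
  haveI : Fact (Nat.Prime 5) := ⟨by norm_num⟩
  haveI : Fact (Nat.Prime 2) := ⟨Nat.prime_two⟩
  have hnp : ¬ (Nat.card G).Prime := by rw [hn]; norm_num
  have h := card_sylow_five (k := 8) (Or.inr rfl) (by rw [hn])
  obtain ⟨P⟩ : Nonempty (Sylow 5 G) := inferInstance
  have hP : Nat.card (P : Subgroup G) = 5 := by
    rw [Small.sylow_card (k := 1) (m := 792) (by rw [hn]; norm_num) (by norm_num) P, pow_one]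
  have hN := Small.card_normalizer_mul P
  rw [h, hn] at hN
  obtain ⟨a, b, ha, hb, had, hbd, hab, hall⟩ := SelfCentral.involutions_two hnp P le_rfl hP
    (show _ = 5 * 2 by omega) (m := 792) (by rw [hn])
  obtain ⟨t, ht⟩ := exists_prime_orderOf_dvd_card' 2 (G := G) (by rw [hn]; norm_num)
  obtain ⟨-, u, -, hu⟩ := hall t ht
  have hc0 : (0 : ℤ) < Nat.card (Subgroup.centralizer ({t} : Set G)) := by exact_mod_cast Nat.card_pos
  have key : ∀ a ∈ (792 : ℕ).divisors, ∀ b ∈ (792 : ℕ).divisors, 2 ≤ a → 2 ≤ b →
      ((a % 5 = 1 ∧ b = a + 1) ∨ (a % 5 = 5 - 1 ∧ b + 1 = a)) →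
      (a, b) = (11, 12) ∨ (a, b) = (9, 8) ∨ (a, b) = (4, 3) := by decide +kernel
  generalize hc : (Nat.card (Subgroup.centralizer ({t} : Set G)) : ℤ) = c at hu hc0
  rw [hn] at hu
  push_cast at hu
  rcases key a (Nat.mem_divisors.2 ⟨had, by norm_num⟩) b (Nat.mem_divisors.2 ⟨hbd, by norm_num⟩) ha hb hab
    with e | e | e <;> (obtain ⟨rfl, rfl⟩ := Prod.ext_iff.1 e; push_cast at hu)
  · exact not_isSquare_mul (d := 6) (fun ⟨r, hr⟩ => by
      have : r < 7 := by nlinarith
      interval_cases r <;> omega) hc0.ne' (x := 11 - u) (by push_cast; linarith)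
  · exact not_isSquare_mul (d := 11) (fun ⟨r, hr⟩ => by
      have : r < 12 := by nlinarith
      interval_cases r <;> omega) hc0.ne' (x := 9 - u) (by push_cast; linarith)
  · exact not_isSquare_mul (d := 66) (fun ⟨r, hr⟩ => by
      have : r < 67 := by nlinarith
      interval_cases r <;> omega) hc0.ne' (x := 4 - u) (by push_cast; linarith)

/-- The possible orders. -/
theorem order_cases (hG : ¬ IsMulCommutative G) (h : Nat.card G ∣ 7920) (hne : Nat.card G ≠ 7920) :
    Nat.card G = 60 ∨ Nat.card G = 360 ∨ Nat.card G = 660 := by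
  have key : ∀ d ∈ (List.range 7921).filter (fun d => 7920 % d == 0),
      d ≤ 1092 ∨ d = 1320 ∨ d = 1584 ∨ d = 1980 ∨ d = 2640 ∨ d = 3960 ∨ d = 7920 := by
    decide +kernel
  have hmem : Nat.card G ∈ (List.range 7921).filter (fun d => 7920 % d == 0) := by
    simp only [List.mem_filter, List.mem_range, beq_iff_eq]
    exact ⟨Nat.lt_succ_of_le (Nat.le_of_dvd (by norm_num) h), Nat.mod_eq_zero_of_dvd h⟩
  rcases key _ hmem with e | e | e | e | e | e | e
  · rcases S0496.result hG e with e' | e' | e' | e' | e' | e'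
    · exact Or.inl e'
    · rw [e'] at h; norm_num at h
    · exact Or.inr (Or.inl e')
    · rw [e'] at h; norm_num at h
    · exact Or.inr (Or.inr e')
    · rw [e'] at h; norm_num at h
  · exact absurd e card_ne_1320
  · exact absurd e card_ne_1584
  · exact absurd e card_ne_1980
  · exact absurd e card_ne_2640
  · exact absurd e card_ne_3960
  · exact absurd e hne

end Cfsg.Agent.PG7920
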