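import Cfsg.Agent.Lib.PrimeGraph7920.Orders
import Cfsg.Agent.Lib.MinNormal.Factors
import Cfsg.Agent.S0989
import Mathlib

/-!
A group of order `7920` without nontrivial normal `p`-subgroups is simple.
-/

set_option autoImplicit false
set_option linter.style.haveILetI false

namespace Cfsg.Agent.PG7920

open MinFactors

variable {G : Type*} [Group G] [Finite G]

/-- A minimal normal subgroup of a group of order `7920` which is not a `p`-group is simple. -/
theorem fac_eq (S : NAMin G) (hcard : Nat.card G = 7920) (hN : S.N ≠ ⊤) :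
    IsSimpleGroup S.N ∧ ¬ IsMulCommutative S.N ∧
      (Nat.card S.N = 60 ∨ Nat.card S.N = 360 ∨ Nat.card S.N = 660) := by
  have hord : ∀ U : S.Fac, Nat.card U.1 = 60 ∨ Nat.card U.1 = 360 ∨ Nat.card U.1 = 660 := by
    intro U
    haveI := S.fac_simple U
    refine order_cases ?_ (hcard ▸ U.1.card_subgroup_dvd_card) ?_
    · obtain ⟨u, hu, v, hv, hne⟩ := S.fac_nonabelian U
      intro h
      exact hne (congrArg Subtype.val (h.1.1 (⟨u, hu⟩ : U.1) ⟨v, hv⟩))
    · intro h
      rw [← hcard] at h
      refine hN (top_le_iff.1 ?_)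
      rw [← Subgroup.eq_top_of_card_eq U.1 h]
      exact (S.fac_stable U).2.1
  have hsub : ∀ U V : S.Fac, U = V := by
    intro U V
    by_contra hne
    let f : U.1 × V.1 →* G :=
      MonoidHom.noncommCoprod U.1.subtype V.1.subtype fun u v => S.fac_comm hne u.2 v.2
    have hf : Function.Injective f := by
      rw [injective_iff_map_eq_one]
      rintro ⟨u, v⟩ h
      have h' : (u : G) * (v : G) = 1 := h
      have hu : (u : G) ∈ U.1 ⊓ V.1 :=
        ⟨u.2, by rw [mul_eq_one_iff_eq_inv.1 h']; exact V.1.inv_mem v.2⟩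
      rw [S.fac_inf hne, Subgroup.mem_bot] at hu
      rw [hu, one_mul] at h'
      exact Prod.ext (Subtype.ext hu) (Subtype.ext h')
    have hd := Subgroup.card_dvd_of_injective f hf
    rw [Nat.card_prod, hcard] at hd
    have h3600 : 3600 ∣ Nat.card U.1 * Nat.card V.1 := by
      rcases hord U with e | e | e <;> rcases hord V with e' | e' | e' <;> rw [e, e'] <;> norm_num
    exact absurd (h3600.trans hd) (by norm_num)
  let U : S.Fac := ⟨S.T, 1, conjS_one _⟩
  have hU : U.1 = S.N := by
    rw [← S.iSup_fac]
    exact le_antisymm (le_iSup (fun W : S.Fac => W.1) U) (iSup_le fun W => by rw [hsub W U])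
  have h1 := S.fac_simple U
  have h2 := hord U
  rw [hU] at h1 h2
  exact ⟨h1, S.nonab, h2⟩

/-- The normaliser of a Sylow subgroup of `N` acts faithfully. -/
theorem exists_faithful (N : Subgroup G) [N.Normal]
    (hmin : ∀ M : Subgroup G, M.Normal → M ≤ N → M = ⊥ ∨ M = N)
    (hC : Subgroup.centralizer (N : Set G) = ⊥) {p : ℕ} [Fact p.Prime] (P : Sylow p N)
    (hn : Nat.card (Sylow p N) ≠ 1) :
    ∃ φ : G →* Equiv.Perm (G ⧸ Subgroup.normalizer (((P : Subgroup N).map N.subtype) : Set G)),
      Function.Injective φ ∧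
      (Subgroup.normalizer (((P : Subgroup N).map N.subtype) : Set G)).index = Nat.card (Sylow p N) := by
  set Q := (P : Subgroup N).map N.subtype with hQ
  set M := Subgroup.normalizer (Q : Set G) with hM
  have htop : M ⊔ N = ⊤ := Sylow.normalizer_sup_eq_top P
  have hidx : N.index = N.relIndex M := by
    rw [← Subgroup.relIndex_top_right, ← htop, Subgroup.relIndex_sup_right]
  have hMidx : M.index = M.relIndex N := by
    have h1 := Subgroup.relIndex_mul_index (inf_le_left : M ⊓ N ≤ M)
    have h2 := Subgroup.relIndex_mul_index (inf_le_right : M ⊓ N ≤ N)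
    rw [Subgroup.inf_relIndex_left] at h1
    rw [Subgroup.inf_relIndex_right] at h2
    rw [← hidx, ← h2, mul_comm (M.relIndex N)] at h1
    exact Nat.eq_of_mul_eq_mul_left (Nat.pos_of_ne_zero N.index_ne_zero_of_finite) h1
  have hsub : Q.subgroupOf N = (P : Subgroup N) := by
    rw [hQ, Subgroup.subgroupOf, Subgroup.comap_map_eq_self_of_injective N.subtype_injective]
  have hMN : M.subgroupOf N = Subgroup.normalizer ((P : Subgroup N) : Set N) := by
    rw [hM, Subgroup.subgroupOf_normalizer_eq (Subgroup.map_subtype_le _), hsub]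
  have hcard : M.index = Nat.card (Sylow p N) := by
    rw [hMidx, Subgroup.relIndex, hMN, ← Small.card_eq_index]
  refine ⟨MulAction.toPermHom G (G ⧸ M), ?_, hcard⟩
  rw [← MonoidHom.ker_eq_bot_iff, ← Subgroup.normalCore_eq_ker]
  set K := M.normalCore with hK
  rcases hmin (K ⊓ N) inferInstance inf_le_right with h | h
  · rw [eq_bot_iff, ← hC]
    intro x hx
    refine Subgroup.mem_centralizer_iff.2 fun y hy => ?_
    exact (Subgroup.commute_of_normal_of_disjoint K N inferInstance inferInstance
      (disjoint_iff.2 h) x y hx hy).eq.symm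
  · exfalso
    have hNM : N ≤ M := le_trans (h.ge.trans inf_le_left) (Subgroup.normalCore_le M)
    rw [sup_eq_left.2 hNM] at htop
    rw [htop, Subgroup.index_top] at hcard
    exact hn hcard.symm

theorem simple_of_no_pgroup (hcard : Nat.card G = 7920)
    (hO : ∀ (p : ℕ), p.Prime → ∀ N : Subgroup G, N.Normal → IsPGroup p N → N = ⊥) :
    IsSimpleGroup G := by
  haveI : Nontrivial G := Finite.one_lt_card_iff_nontrivial.1 (by rw [hcard]; norm_num)
  by_contra hns
  obtain ⟨N₀, hN₀, hb, ht⟩ : ∃ N : Subgroup G, N.Normal ∧ N ≠ ⊥ ∧ N ≠ ⊤ := by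
    by_contra h
    push Not at h
    exact hns ⟨fun H hH => or_iff_not_imp_left.2 (h H hH)⟩
  -- every nontrivial normal subgroup contains a nonabelian minimal one
  have hmk : ∀ N₁ : Subgroup G, N₁.Normal → N₁ ≠ ⊥ → ∃ S : NAMin G, S.N ≤ N₁ := by
    intro N₁ hn hne
    obtain ⟨N, hle, ⟨hNn, hNb⟩, hmin⟩ := Finite.exists_le_minimal
      (p := fun U : Subgroup G => U.Normal ∧ U ≠ ⊥) (a := N₁) ⟨hn, hne⟩
    have hmin' : ∀ M : Subgroup G, M.Normal → M ≤ N → M = ⊥ ∨ M = N := fun M hM hMN =>
      or_iff_not_imp_left.2 fun hMb => le_antisymm hMN (hmin ⟨hM, hMb⟩ hMN)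
    have hna : ¬ IsMulCommutative N := by
      intro hab
      haveI : Nontrivial N := (Subgroup.nontrivial_iff_ne_bot _).2 hNb
      obtain ⟨p, hp, hpd⟩ := Nat.exists_prime_and_dvd
        (Finite.one_lt_card (α := N)).ne'
      haveI := Fact.mk hp
      obtain ⟨P⟩ : Nonempty (Sylow p N) := inferInstance
      haveI : (P : Subgroup N).Normal := ⟨fun x hx g => by
        have e : g * x * g⁻¹ = x := by rw [hab.1.1 g x, mul_assoc, mul_inv_cancel, mul_one]
        rwa [e]⟩
      haveI := Sylow.characteristic_of_normal P this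
      haveI := hNn
      have hz := hO p hp ((P : Subgroup N).map N.subtype) inferInstance (P.isPGroup'.map _)
      rw [Subgroup.map_eq_bot_iff_of_injective _ N.subtype_injective] at hz
      exact P.ne_bot_of_dvd_card hpd hz
    obtain ⟨S, hS⟩ := exists_naMin N hNn hNb hmin' hna
    exact ⟨S, hS ▸ hle⟩
  obtain ⟨S, hSle⟩ := hmk N₀ hN₀ hb
  have hSt : S.N ≠ ⊤ := fun e => ht (top_le_iff.1 (e ▸ hSle))
  obtain ⟨hsimp, hna, hord⟩ := fac_eq S hcard hSt
  haveI := S.normal
  set N := S.N with hN
  have hC : Subgroup.centralizer (N : Set G) = ⊥ := by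
    by_contra hCb
    obtain ⟨S', hS'⟩ := hmk _ inferInstance hCb
    have hS't : S'.N ≠ ⊤ := by
      intro e
      have h1 : N ≤ Subgroup.centralizer (N : Set G) := fun x _ => hS' (e ▸ Subgroup.mem_top x)
      exact hna ⟨⟨fun a b => Subtype.ext (Subgroup.mem_centralizer_iff.1 (h1 b.2) a a.2)⟩⟩
    obtain ⟨-, -, hord'⟩ := fac_eq S' hcard hS't
    let f : N × S'.N →* G := MonoidHom.noncommCoprod N.subtype S'.N.subtype fun a b =>
      (Subgroup.mem_centralizer_iff.1 (hS' b.2) a a.2)
    have hf : Function.Injective f := by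
      rw [injective_iff_map_eq_one]
      rintro ⟨u, v⟩ h
      have h' : (u : G) * (v : G) = 1 := h
      have hvN : (v : G) ∈ N := by
        rw [eq_inv_of_mul_eq_one_right h']; exact N.inv_mem u.2
      have hz : (⟨(v : G), hvN⟩ : N) ∈ Subgroup.center N := Subgroup.mem_center_iff.2 fun w =>
        Subtype.ext (Subgroup.mem_centralizer_iff.1 (hS' v.2) w w.2)
      have hcz : Subgroup.center N = ⊥ := by
        rcases (inferInstance : (Subgroup.center N).Normal).eq_bot_or_eq_top with e | e
        · exact e
        · exact absurd ⟨⟨fun a b => Subgroup.mem_center_iff.1 (e ▸ Subgroup.mem_top b) a⟩⟩ hna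
      rw [hcz, Subgroup.mem_bot] at hz
      have hv1 : (v : G) = 1 := congrArg Subtype.val hz
      rw [hv1, mul_one] at h'
      exact Prod.ext (Subtype.ext h') (Subtype.ext hv1)
    have hd := Subgroup.card_dvd_of_injective f hf
    rw [Nat.card_prod, hcard] at hd
    have h3600 : 3600 ∣ Nat.card N * Nat.card S'.N := by
      rcases hord with e | e | e <;> rcases hord' with e' | e' | e' <;> rw [e, e'] <;> norm_num
    exact absurd (h3600.trans hd) (by norm_num)
  haveI : IsSimpleGroup N := hsimp
  have hfacd : ∀ {p : ℕ} [Fact p.Prime] (P : Sylow p N), Nat.card (Sylow p N) ≠ 1 →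
      7920 ∣ (Nat.card (Sylow p N)).factorial := by
    intro p _ P hn
    obtain ⟨φ, hφ, hidx⟩ := exists_faithful N S.minimal hC P hn
    have := Subgroup.card_dvd_of_injective φ hφ
    rwa [hcard, Nat.card_perm, ← Subgroup.index, hidx] at this
  rcases hord with h | h | h
  · haveI : Fact (Nat.Prime 5) := ⟨by norm_num⟩
    have hd : 5 ∣ Nat.card N := by rw [h]; norm_num
    have hmem := Small.sylow_number_mem (G := N) (p := 5) (k := 1) (m := 12) (by rw [h]; norm_num) (by norm_num)
    have hne := Small.sylow_number_ne_one (p := 5) hna hd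
    rw [show (12 : ℕ).divisors.filter (fun d => d % 5 = 1) = {1, 6} by decide +kernel, Finset.mem_insert,
      Finset.mem_singleton] at hmem
    obtain ⟨P⟩ : Nonempty (Sylow 5 N) := inferInstance
    have := hfacd P hne
    rw [hmem.resolve_left hne] at this
    norm_num [Nat.factorial] at this
  · haveI : Fact (Nat.Prime 3) := ⟨Nat.prime_three⟩
    have hd : 3 ∣ Nat.card N := by rw [h]; norm_num
    have hmem := Small.sylow_number_mem (G := N) (p := 3) (k := 2) (m := 40) (by rw [h]; norm_num) (by norm_num)
    have hne := Small.sylow_number_ne_one (p := 3) hna hd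
    rw [show (40 : ℕ).divisors.filter (fun d => d % 3 = 1) = {1, 4, 10, 40} by decide +kernel] at hmem
    simp only [Finset.mem_insert, Finset.mem_singleton] at hmem
    obtain ⟨P⟩ : Nonempty (Sylow 3 N) := inferInstance
    have := hfacd P hne
    rcases hmem with e | e | e | e
    · exact hne e
    · rw [e] at this; norm_num [Nat.factorial] at this
    · rw [e] at this; norm_num [Nat.factorial] at this
    · have hP : Nat.card (P : Subgroup N) = 9 := by
        rw [Small.sylow_card (k := 2) (m := 40) (by rw [h]; norm_num) (by norm_num) P]; norm_num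
      have hN' := Small.card_normalizer_mul P
      rw [e, h] at hN'
      have hNP : Subgroup.normalizer ((P : Subgroup N) : Set N) = (P : Subgroup N) :=
        (Subgroup.eq_of_le_of_card_ge P.le_normalizer (by rw [hP]; omega)).symm
      haveI := IsPGroup.isMulCommutative_of_card_eq_prime_sq (p := 3) (G := (P : Subgroup N))
        (by rw [hP]; norm_num)
      have h3 := Small.card_eq_prime_of_central hd P (by
        rw [hNP]
        exact fun x hx => Subgroup.mem_centralizer_iff.2 fun y hy =>
          congrArg Subtype.val (mul_comm' (⟨y, hy⟩ : (P : Subgroup N)) ⟨x, hx⟩))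
      rw [h] at h3
      norm_num at h3
  · haveI : Fact (Nat.Prime 11) := ⟨by norm_num⟩
    have hd : 11 ∣ Nat.card N := by rw [h]; norm_num
    have hmem := Small.sylow_number_mem (G := N) (p := 11) (k := 1) (m := 60) (by rw [h]; norm_num) (by norm_num)
    have hne := Small.sylow_number_ne_one (p := 11) hna hd
    rw [show (60 : ℕ).divisors.filter (fun d => d % 11 = 1) = {1, 12} by decide +kernel, Finset.mem_insert,
      Finset.mem_singleton] at hmem
    have h12 := hmem.resolve_left hne
    obtain ⟨P⟩ : Nonempty (Sylow 11 N) := inferInstance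
    classical
    set Q := (P : Subgroup N).map N.subtype with hQ
    set M := Subgroup.normalizer (Q : Set G) with hM
    obtain ⟨φ, hφ, hidx⟩ : ∃ φ : G →* Equiv.Perm (G ⧸ M), Function.Injective φ ∧
        M.index = Nat.card (Sylow 11 N) := exists_faithful N S.minimal hC P hne
    rw [h12] at hidx
    letI := Fintype.ofFinite (G ⧸ M)
    have hα : Fintype.card (G ⧸ M) = 12 := by
      rw [← Nat.card_eq_fintype_card]; exact hidx
    have hQc : Nat.card Q = 11 := by
      rw [hQ, Subgroup.card_map_of_injective N.subtype_injective,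
        Small.sylow_card (k := 1) (m := 60) (by rw [h]; norm_num) (by norm_num) P, pow_one]
    set R : Subgroup (Equiv.Perm (G ⧸ M)) := Q.map φ with hR
    have hRc : Nat.card R = 11 ^ (Nat.card (Equiv.Perm (G ⧸ M))).factorization 11 := by
      rw [hR, Subgroup.card_map_of_injective hφ, hQc, Nat.card_perm, Nat.card_eq_fintype_card, hα,
        OrderTools.factorization_factorial_succ (p := 11) (by norm_num), pow_one]
    let R' : Sylow 11 (Equiv.Perm (G ⧸ M)) := Sylow.ofCard R hRc
    have h1 := S0989.result 11 (Or.inr hα) R'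
    have hle : M.map φ ≤
        Subgroup.normalizer ((R' : Subgroup (Equiv.Perm (G ⧸ M))) : Set (Equiv.Perm (G ⧸ M))) :=
      Subgroup.le_normalizer_map (H := Q) φ
    have h2 := Subgroup.card_dvd_of_le hle
    rw [Subgroup.card_map_of_injective hφ, h1] at h2
    have hMc := M.card_mul_index
    rw [hidx, hcard] at hMc
    rw [show Nat.card M = 660 by omega] at h2
    norm_num at h2

end Cfsg.Agent.PG7920
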